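import Mathlib
import Groth.Prelude.Def_GSzH1

/-!
# Cocycles of the absolute Galois group of a finite field
-/

set_option autoImplicit false
universe u v

open Polynomial

noncomputable section

namespace Groth.Agent.GpLangLib

variable {k : Type u} [Field k] [Finite k]


variable {π : (AlgebraicClosure k ≃ₐ[k] AlgebraicClosure k)} (hπ : ∀ x : AlgebraicClosure k, π x = x ^ Nat.card k)

include hπ

theorem pow_apply (n : ℕ) (x : AlgebraicClosure k) : (π ^ n) x = x ^ (Nat.card k ^ n) := by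
  induction n with
  | zero => simp
  | succ n ih => rw [pow_succ', AlgEquiv.mul_apply, ih, hπ, ← pow_mul, ← pow_succ]

omit hπ in
/-- The finite level `N`. -/
def lev (π : (AlgebraicClosure k ≃ₐ[k] AlgebraicClosure k)) (N : ℕ) : IntermediateField k (AlgebraicClosure k) :=
  IntermediateField.fixedField (Subgroup.zpowers (π ^ N))

omit hπ in
theorem mem_lev {N : ℕ} {x : AlgebraicClosure k} : x ∈ lev π N ↔ (π ^ N) x = x := by
  refine ⟨fun h => h ⟨_, Subgroup.mem_zpowers _⟩, fun h g => ?_⟩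
  obtain ⟨g, hg⟩ := g
  obtain ⟨i, rfl⟩ := Subgroup.mem_zpowers_iff.mp hg
  show ((π ^ N) ^ i) x = x
  have hst : π ^ N ∈ MulAction.stabilizer (AlgebraicClosure k ≃ₐ[k] AlgebraicClosure k) x := h
  exact (MulAction.stabilizer (AlgebraicClosure k ≃ₐ[k] AlgebraicClosure k) x).zpow_mem hst i

theorem roots_card {N : ℕ} (hN : 0 < N) :
    {x : AlgebraicClosure k | x ^ (Nat.card k ^ N) = x}.ncard = Nat.card k ^ N := by
  classical
  haveI := Fintype.ofFinite k
  obtain ⟨p, hp⟩ := CharP.exists k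
  haveI : CharP (AlgebraicClosure k) p := charP_of_injective_algebraMap (algebraMap k (AlgebraicClosure k)).injective p
  obtain ⟨n, hpp, hcard⟩ := FiniteField.card k p
  have hq : Nat.card k = p ^ (n : ℕ) := by rw [Nat.card_eq_fintype_card, hcard]
  have hdvd : p ∣ Nat.card k ^ N := hq ▸ dvd_pow (dvd_pow_self p n.2.ne') hN.ne'
  have hone : 1 < Nat.card k ^ N := Nat.one_lt_pow hN.ne' Finite.one_lt_card
  let f : (AlgebraicClosure k)[X] := X ^ (Nat.card k ^ N) - X
  have hsep : f.Separable := galois_poly_separable p _ hdvd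
  have hdeg : f.natDegree = Nat.card k ^ N := FiniteField.X_pow_card_sub_X_natDegree_eq _ hone
  have hne : f ≠ 0 := FiniteField.X_pow_card_sub_X_ne_zero _ hone
  have hset : {x : AlgebraicClosure k | x ^ (Nat.card k ^ N) = x} = (f.roots.toFinset : Set _) := by
    ext x
    rw [Set.mem_setOf_eq, Finset.mem_coe, Multiset.mem_toFinset, mem_roots hne, IsRoot, eval_sub, eval_pow, eval_X, sub_eq_zero]
  rw [hset, Set.ncard_coe_finset, Multiset.toFinset_card_of_nodup (nodup_roots hsep), IsAlgClosed.card_roots_eq_natDegree, hdeg]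

theorem finite_lev {N : ℕ} (hN : 0 < N) : Finite (lev π N) := by
  have h : (lev π N : Set (AlgebraicClosure k)) = {x | x ^ (Nat.card k ^ N) = x} := by
    ext x
    rw [SetLike.mem_coe, mem_lev, pow_apply hπ]
    rfl
  have h1 : Set.Finite (lev π N : Set (AlgebraicClosure k)) := by
    rw [h]
    refine Set.finite_of_ncard_pos ?_
    rw [roots_card hπ hN]
    exact pow_pos Nat.card_pos _
  exact h1.to_subtype

theorem exists_agree {N : ℕ} (hN : 0 < N) (σ : (AlgebraicClosure k ≃ₐ[k] AlgebraicClosure k)) : ∃ i : ℕ, ∀ x ∈ lev π N, σ x = (π ^ i) x := by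
  haveI := Fintype.ofFinite k
  haveI := finite_lev hπ hN
  haveI : FiniteDimensional k (lev π N) := Module.Finite.of_finite
  haveI : Normal k (lev π N) := IsGalois.to_normal
  obtain ⟨i, hi⟩ := (FiniteField.bijective_frobeniusAlgEquivOfAlgebraic_pow k (lev π N)).2 (σ.restrictNormal (lev π N))
  refine ⟨i, fun x hx => ?_⟩
  have h := AlgEquiv.restrictNormal_commutes σ (lev π N) ⟨x, hx⟩
  rw [← hi, AlgEquiv.coe_pow, FiniteField.coe_frobeniusAlgEquivOfAlgebraic_iterate] at h
  rw [pow_apply hπ, Nat.card_eq_fintype_card]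
  exact h.symm

theorem agree_unique {N : ℕ} (hN : 0 < N) {i j : ℕ} (h : ∀ x ∈ lev π N, (π ^ i) x = (π ^ j) x) : i % N = j % N := by
  have hper : ∀ (n : ℕ) (x), x ∈ lev π N → (π ^ n) x = (π ^ (n % N)) x := fun n x hx => by
    conv_lhs => rw [← Nat.mod_add_div n N, pow_add, AlgEquiv.mul_apply]
    congr 1
    have : ∀ m : ℕ, ((π ^ N) ^ m) x = x := fun m => by
      induction m with
      | zero => rfl
      | succ m ih => rw [pow_succ, AlgEquiv.mul_apply, mem_lev.mp hx, ih]
    rw [pow_mul]; exact this _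
  wlog hij : i % N ≤ j % N generalizing i j
  · exact (this (fun x hx => (h x hx).symm) (Nat.le_of_lt (not_le.mp hij))).symm
  by_contra hne
  let d := j % N - i % N
  have hd : 0 < d := Nat.sub_pos_of_lt (lt_of_le_of_ne hij hne)
  have hdN : d < N := Nat.lt_of_le_of_lt (Nat.sub_le _ _) (Nat.mod_lt _ hN)
  have hsub : {x : AlgebraicClosure k | x ^ (Nat.card k ^ N) = x} ⊆ {x | x ^ (Nat.card k ^ d) = x} := by
    intro x hx
    have hxm : x ∈ lev π N := mem_lev.mpr ((pow_apply hπ N x).trans hx)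
    have h1 := h x hxm
    rw [hper i x hxm, hper j x hxm, show j % N = i % N + d by omega, pow_add, AlgEquiv.mul_apply] at h1
    exact ((pow_apply hπ d x).symm.trans ((π ^ (i % N)).injective h1).symm)
  have hfin : {x : AlgebraicClosure k | x ^ (Nat.card k ^ d) = x}.Finite := Set.finite_of_ncard_pos (by
    rw [roots_card hπ hd]; exact pow_pos Nat.card_pos _)
  have := Set.ncard_le_ncard hsub hfin
  rw [roots_card hπ hN, roots_card hπ hd] at this
  exact absurd this (not_le.mpr (Nat.pow_lt_pow_right Finite.one_lt_card hdN))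

/-- Neighbourhoods contain the automorphisms agreeing on a finite level. -/
theorem exists_lev_subset (σ : (AlgebraicClosure k ≃ₐ[k] AlgebraicClosure k)) {s : Set (AlgebraicClosure k ≃ₐ[k] AlgebraicClosure k)} (hs : IsOpen s) (hσ : σ ∈ s) :
    ∃ M, 0 < M ∧ ∀ N, 0 < N → M ∣ N → ∀ τ : (AlgebraicClosure k ≃ₐ[k] AlgebraicClosure k), (∀ x ∈ lev π N, τ x = σ x) → τ ∈ s := by
  have h1 : (fun τ : (AlgebraicClosure k ≃ₐ[k] AlgebraicClosure k) => σ * τ) ⁻¹' s ∈ nhds (1 : (AlgebraicClosure k ≃ₐ[k] AlgebraicClosure k)) :=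
    ((hs.preimage (continuous_const_mul σ)).mem_nhds (by simpa using hσ))
  obtain ⟨E, hE, hEs⟩ := (krullTopology_mem_nhds_one_iff k _ _).mp h1
  haveI := hE
  haveI : Finite E := Module.finite_of_finite k
  haveI := Fintype.ofFinite E
  haveI := Fintype.ofFinite k
  refine ⟨Module.finrank k E, Module.finrank_pos, fun N _ hdiv τ hτ => ?_⟩
  have hle : ∀ x ∈ E, x ∈ lev π N := fun x hx => by
    obtain ⟨c, rfl⟩ := hdiv
    refine mem_lev.mpr ?_
    rw [pow_apply hπ, pow_mul, Nat.card_eq_fintype_card, ← Module.card_eq_pow_finrank]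
    exact congrArg Subtype.val (FiniteField.pow_card_pow c (⟨x, hx⟩ : E))
  have : σ⁻¹ * τ ∈ E.fixingSubgroup := (IntermediateField.mem_fixingSubgroup_iff E _).mpr fun x hx => by
    rw [AlgEquiv.mul_apply, hτ x (hle x hx), ← AlgEquiv.mul_apply, inv_mul_cancel, AlgEquiv.one_apply]
  have h2 := hEs this
  rwa [Set.mem_preimage, mul_inv_cancel_left] at h2

theorem isOpen_agree {N : ℕ} (hN : 0 < N) (σ : (AlgebraicClosure k ≃ₐ[k] AlgebraicClosure k)) : IsOpen {τ : (AlgebraicClosure k ≃ₐ[k] AlgebraicClosure k) | ∀ x ∈ lev π N, τ x = σ x} := by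
  haveI := finite_lev hπ hN
  haveI : FiniteDimensional k (lev π N) := Module.Finite.of_finite
  have h := (IntermediateField.fixingSubgroup_isOpen (lev π N)).preimage (continuous_const_mul σ⁻¹)
  convert h using 1
  ext τ
  simp only [Set.mem_setOf_eq, Set.mem_preimage, SetLike.mem_coe, IntermediateField.mem_fixingSubgroup_iff, AlgEquiv.mul_apply]
  refine forall₂_congr fun x _ => ?_
  exact ⟨fun h => by rw [h, ← AlgEquiv.mul_apply, inv_mul_cancel, AlgEquiv.one_apply],
    fun h => by rw [← AlgEquiv.one_apply (R := k) (τ x), ← mul_inv_cancel σ, AlgEquiv.mul_apply, h]⟩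

variable {A : Type v} [Group A] [MulDistribMulAction (AlgebraicClosure k ≃ₐ[k] AlgebraicClosure k) A]

/-- A locally constant cocycle is determined by its value at the Frobenius. -/
theorem cocycle_ext {z z' : GpH1.OneCocycleLC (AlgebraicClosure k ≃ₐ[k] AlgebraicClosure k) A} (h : z.1 π = z'.1 π) : z = z' := by
  have hone : ∀ w : GpH1.OneCocycleLC (AlgebraicClosure k ≃ₐ[k] AlgebraicClosure k) A, w.1 1 = 1 := fun w => by
    have := w.1.2 1 1
    rw [one_smul, one_mul] at this
    exact left_eq_mul.mp this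
  have hpow : ∀ n : ℕ, z.1 (π ^ n) = z'.1 (π ^ n) := fun n => by
    induction n with
    | zero => rw [pow_zero, hone, hone]
    | succ n ih => rw [pow_succ, z.1.2, z'.1.2, ih, h]
  refine Subtype.ext (GpH1.OneCocycle.ext fun σ => ?_)
  obtain ⟨M₁, hM₁, h₁⟩ := exists_lev_subset hπ σ (z.2.isOpen_fiber (z.1 σ)) rfl
  obtain ⟨M₂, hM₂, h₂⟩ := exists_lev_subset hπ σ (z'.2.isOpen_fiber (z'.1 σ)) rfl
  obtain ⟨i, hi⟩ := exists_agree hπ (Nat.mul_pos hM₁ hM₂) σ
  have e₁ := h₁ _ (Nat.mul_pos hM₁ hM₂) (dvd_mul_right _ _) (π ^ i) fun x hx => (hi x hx).symm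
  have e₂ := h₂ _ (Nat.mul_pos hM₁ hM₂) (dvd_mul_left _ _) (π ^ i) fun x hx => (hi x hx).symm
  exact e₁.symm.trans ((hpow i).trans e₂)

/-- Existence of a locally constant cocycle with prescribed value at the Frobenius. -/
theorem exists_cocycle (hcont : ∀ a : A, IsOpen {σ : (AlgebraicClosure k ≃ₐ[k] AlgebraicClosure k) | σ • a = a})
    (hfin : ∀ a : A, ∃ H : Subgroup A, (H : Set A).Finite ∧ a ∈ H ∧ ∀ (σ : (AlgebraicClosure k ≃ₐ[k] AlgebraicClosure k)) (x : A), x ∈ H → σ • x ∈ H)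
    (a : A) : ∃ z : GpH1.OneCocycleLC (AlgebraicClosure k ≃ₐ[k] AlgebraicClosure k) A, z.1 π = a := by
  classical
  obtain ⟨H, hHfin, haH, hH⟩ := hfin a
  have hopen : IsOpen (⋂ x ∈ (H : Set A), {σ : (AlgebraicClosure k ≃ₐ[k] AlgebraicClosure k) | σ • x = x}) := hHfin.isOpen_biInter fun x _ => hcont x
  obtain ⟨M, hM, hMs⟩ := exists_lev_subset hπ (1 : (AlgebraicClosure k ≃ₐ[k] AlgebraicClosure k)) hopen (Set.mem_iInter₂.mpr fun x _ => one_smul _ x)
  have hfix : ∀ N, 0 < N → M ∣ N → ∀ σ τ : (AlgebraicClosure k ≃ₐ[k] AlgebraicClosure k), (∀ y ∈ lev π N, σ y = τ y) → ∀ x ∈ H, σ • x = τ • x := by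
    intro N hN hMN σ τ hστ x hx
    have hh := hMs N hN hMN (τ⁻¹ * σ) fun y hy => by
      rw [AlgEquiv.mul_apply, hστ y hy, ← AlgEquiv.mul_apply, inv_mul_cancel]
    have := Set.mem_iInter₂.mp hh x hx
    rw [Set.mem_setOf_eq, mul_smul, inv_smul_eq_iff] at this
    exact this
  let P : ℕ → A := fun n => Nat.rec 1 (fun n x => x * (π ^ n) • a) n
  have hP0 : P 0 = 1 := rfl
  have hPs : ∀ n, P (n + 1) = P n * (π ^ n) • a := fun n => rfl
  have hPH : ∀ n, P n ∈ H := fun n => by
    induction n with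
    | zero => rw [hP0]; exact one_mem _
    | succ n ih => rw [hPs]; exact mul_mem ih (hH _ _ haH)
  have hPadd : ∀ i j, P (i + j) = P i * (π ^ i) • P j := fun i j => by
    induction j with
    | zero => rw [hP0, smul_one, mul_one, add_zero]
    | succ j ih => rw [← add_assoc, hPs, ih, hPs, smul_mul', ← mul_smul, ← pow_add, mul_assoc]
  have hMfix : ∀ x ∈ H, ∀ c : ℕ, (π ^ (M * c)) • x = x := fun x hx c => by
    have := hfix M hM dvd_rfl (π ^ (M * c)) 1 (fun y hy => by
      rw [AlgEquiv.one_apply, pow_mul]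
      induction c with
      | zero => rfl
      | succ c ih => rw [pow_succ, AlgEquiv.mul_apply, mem_lev.mp hy, ih]) x hx
    rwa [one_smul] at this
  haveI : Finite H := hHfin.to_subtype
  let e := orderOf (⟨P M, hPH M⟩ : H)
  have he : 0 < e := orderOf_pos _
  have hPM : ∀ c, P (M * c) = P M ^ c := fun c => by
    induction c with
    | zero => rw [Nat.mul_zero, hP0, pow_zero]
    | succ c ih => rw [Nat.mul_succ, hPadd, ih, hMfix _ (hPH M), pow_succ]
  let N := M * e
  have hN : 0 < N := Nat.mul_pos hM he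
  have hPN : P N = 1 := by
    rw [hPM]
    exact congrArg Subtype.val (pow_orderOf_eq_one (⟨P M, hPH M⟩ : H))
  have hper : ∀ i, P i = P (i % N) := fun i => by
    conv_lhs => rw [← Nat.mod_add_div i N]
    induction i / N with
    | zero => rw [Nat.mul_zero, add_zero]
    | succ c ih => rw [Nat.mul_succ, ← add_assoc, hPadd, hPN, smul_one, mul_one, ih]
  choose i hi using exists_agree hπ hN
  have hz : ∀ (σ : (AlgebraicClosure k ≃ₐ[k] AlgebraicClosure k)) (n : ℕ), (∀ x ∈ lev π N, σ x = (π ^ n) x) → P (i σ) = P n := fun σ n hn => by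
    rw [hper (i σ), hper n, agree_unique hπ hN fun x hx => (hi σ x hx).symm.trans (hn x hx)]
  let z : (AlgebraicClosure k ≃ₐ[k] AlgebraicClosure k) → A := fun σ => P (i σ)
  have hcoc : GpH1.IsOneCocycle z := fun σ τ => by
    show P (i (σ * τ)) = P (i σ) * σ • P (i τ)
    rw [hfix N hN (dvd_mul_right _ _) σ (π ^ i σ) (hi σ) _ (hPH _), ← hPadd]
    refine hz _ _ fun x hx => ?_
    rw [AlgEquiv.mul_apply, hi τ x hx, pow_add, AlgEquiv.mul_apply, hi σ _ ?_]
    refine mem_lev.mpr ?_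
    rw [← AlgEquiv.mul_apply, ← pow_add, add_comm, pow_add, AlgEquiv.mul_apply, mem_lev.mp hx]
  have hlc : IsLocallyConstant z := (IsLocallyConstant.iff_exists_open z).mpr fun σ =>
    ⟨_, isOpen_agree hπ hN σ, fun x _ => rfl, fun τ hτ => hz τ (i σ) fun x hx => (hτ x hx).trans (hi σ x hx)⟩
  refine ⟨⟨⟨z, hcoc⟩, hlc⟩, ?_⟩
  show P (i π) = a
  rw [hz π 1 fun x _ => by rw [pow_one]]
  show P 0 * (π ^ 0) • a = a
  rw [hP0, pow_zero, one_smul, one_mul]

end Groth.Agent.GpLangLib
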